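import Cfsg.Agent.Characters.ClassMul
import Cfsg.Agent.Characters.Values

/-!
# The variance of a class sum on a character (helper165)

Let `Ψ = ∑ m ψ` be a character of the finite group `G` and `t` an element conjugate to its inverse.  The class sum of
`t` acts on `ψ` by `|t^G| ψ(t) / ψ(1)`.  The first two moments of `ψ(t) / ψ(1)` over the constituents of `Ψ` are
`Ψ(t)` and the mean value of `Ψ(s t)` over the conjugates `s` of `t`.

* `mean_sq`     : `∑_a Ψ(a t a⁻¹ t) = |G| ∑ m ψ(t)^2 / ψ(1)`;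
* `ratio_of_var`: if `Ψ(1) ∑_a Ψ(a t a⁻¹ t) = |G| Ψ(t)^2` (variance zero), then `ψ(t) Ψ(1) = Ψ(t) ψ(1)` for every
  constituent `ψ`;
* `ratio_of_var_class`, `ratio_of_var_act` : the same with the sum over the class, over a transitive `G`-set;
* `sum_act_irr` : second moment of an irreducible character over the `G`-set; `sum_colour` : sums by colours;
* `int_of_sq`   : values of characters at elements with `t * t = 1` are integers;
* `exists_multiple`: if `ψ(t) Ψ(1) = Ψ(t) ψ(1)`, `Ψ(t) / Ψ(1) = A / B` in lowest terms, then `B ∣ ψ(1)`.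
-/

set_option autoImplicit false

namespace Cfsg.Agent.H165.Vr

open Cfsg Cfsg.Agent.Characters.Core Cfsg.Agent.Characters.Central
open scoped ComplexConjugate

universe u v
variable {G : Type u} [Group G]

theorem comb_apply [Fintype (IrrCharacter G)] (m : IrrCharacter G → ℕ) (g : G) :
    (∑ ψ : IrrCharacter G, m ψ • (ψ : G → ℂ)) g = ∑ ψ : IrrCharacter G, (m ψ : ℂ) * (ψ : G → ℂ) g := by
  rw [Finset.sum_apply]
  refine Finset.sum_congr rfl fun ψ _ => ?_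
  rw [Pi.smul_apply, nsmul_eq_mul]

/-- the second moment -/
theorem mean_sq [Fintype G] [Fintype (IrrCharacter G)] {Ψ : G → ℂ} {m : IrrCharacter G → ℕ}
    (hm : Ψ = ∑ ψ : IrrCharacter G, m ψ • (ψ : G → ℂ)) (t : G) :
    ∑ a, Ψ (a * t * a⁻¹ * t) =
      (Nat.card G : ℂ) * ∑ ψ : IrrCharacter G, (m ψ : ℂ) * ((ψ : G → ℂ) t ^ 2 / (ψ : G → ℂ) 1) := by
  subst hm
  simp only [comb_apply]
  rw [Finset.sum_comm, Finset.mul_sum]
  refine Finset.sum_congr rfl fun ψ _ => ?_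
  rw [← Finset.mul_sum, sum_char_conj_mul ψ.2]
  ring

/-- the values at elements conjugate to their inverse are real -/
theorem real_of_conj [Finite G] {ψ : G → ℂ} (hψ : IsCharacter G ψ) {t : G} (ht : IsConj t t⁻¹) :
    ((ψ t).re : ℂ) = ψ t := by
  have h1 : ψ t⁻¹ = ψ t := by
    obtain ⟨c, hc⟩ := isConj_iff.1 ht
    rw [← hc]
    exact isCharacter_isClassFunction hψ t c
  rw [isCharacter_apply_inv hψ] at h1
  exact Complex.conj_eq_iff_re.1 h1

/-- **Variance zero.** -/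
theorem ratio_of_var [Fintype G] {Ψ : G → ℂ} (hΨ : IsCharacter G Ψ) {t : G} (ht : IsConj t t⁻¹)
    (hv : Ψ 1 * ∑ a, Ψ (a * t * a⁻¹ * t) = (Nat.card G : ℂ) * Ψ t ^ 2) {ψ : G → ℂ} (hψ : IsIrrCharacter G ψ)
    (hc : classInner Ψ ψ ≠ 0) : ψ t * Ψ 1 = Ψ t * ψ 1 := by
  classical
  have := finite_irr (G := G)
  have := Fintype.ofFinite (IrrCharacter G)
  obtain ⟨m, hm⟩ := exists_nat_comb hΨ
  have hG : (Nat.card G : ℂ) ≠ 0 := card_ne_zero_complex
  have hd : ∀ χ : IrrCharacter G, ∃ n : ℕ, 0 < n ∧ (χ : G → ℂ) 1 = n := fun χ => isIrr_apply_one χ.2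
  choose d hd0 hd1 using hd
  have hr : ∀ χ : IrrCharacter G, (((χ : G → ℂ) t).re : ℂ) = (χ : G → ℂ) t := fun χ =>
    real_of_conj (isIrr_isCharacter χ.2) ht
  set r : IrrCharacter G → ℝ := fun χ => ((χ : G → ℂ) t).re with hrdef
  have hr' : ∀ χ : IrrCharacter G, (χ : G → ℂ) t = (r χ : ℂ) := fun χ => (hr χ).symm
  -- the moments
  have hM0 : Ψ 1 = ((∑ χ, (m χ : ℝ) * (d χ : ℝ) : ℝ) : ℂ) := by
    rw [hm, comb_apply]
    simp only [hd1]
    push_cast
    rfl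
  have hM1 : Ψ t = ((∑ χ, (m χ : ℝ) * r χ : ℝ) : ℂ) := by
    rw [hm, comb_apply]
    simp only [hr']
    push_cast
    rfl
  have hM2 : ∑ a, Ψ (a * t * a⁻¹ * t) =
      (Nat.card G : ℂ) * ((∑ χ, (m χ : ℝ) * (r χ ^ 2 / (d χ : ℝ)) : ℝ) : ℂ) := by
    rw [mean_sq hm]
    congr 1
    push_cast
    refine Finset.sum_congr rfl fun χ _ => ?_
    rw [hd1, hr']
  set D : ℝ := ∑ χ, (m χ : ℝ) * (d χ : ℝ) with hD
  set T : ℝ := ∑ χ, (m χ : ℝ) * r χ with hT
  set Q : ℝ := ∑ χ, (m χ : ℝ) * (r χ ^ 2 / (d χ : ℝ)) with hQ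
  have hvar : D * Q = T ^ 2 := by
    have h1 : (D : ℂ) * ((Nat.card G : ℂ) * (Q : ℂ)) = (Nat.card G : ℂ) * (T : ℂ) ^ 2 := by
      rw [← hM0, ← hM2, ← hM1]; exact hv
    have h2 : (Nat.card G : ℂ) * ((D * Q : ℝ) : ℂ) = (Nat.card G : ℂ) * ((T ^ 2 : ℝ) : ℂ) := by
      push_cast
      linear_combination h1
    exact_mod_cast mul_left_cancel₀ hG h2
  -- the constituent
  have hmψ : m ⟨ψ, hψ⟩ ≠ 0 := by
    intro h0
    apply hc
    have h1 := classInner_sum_nsmul_irr m ⟨ψ, hψ⟩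
    rw [← hm, h0, Nat.cast_zero] at h1
    exact h1
  have hdpos : ∀ χ, (0 : ℝ) < d χ := fun χ => by exact_mod_cast hd0 χ
  have hterm : ∀ χ, 0 ≤ (m χ : ℝ) * (d χ : ℝ) := fun χ => by positivity
  have hDpos : 0 < D := by
    have h1 : (m ⟨ψ, hψ⟩ : ℝ) * (d ⟨ψ, hψ⟩ : ℝ) ≤ D :=
      Finset.single_le_sum (f := fun χ => (m χ : ℝ) * (d χ : ℝ)) (fun χ _ => hterm χ) (Finset.mem_univ _)
    have h2 : (0 : ℝ) < (m ⟨ψ, hψ⟩ : ℝ) * (d ⟨ψ, hψ⟩ : ℝ) :=
      mul_pos (by exact_mod_cast Nat.pos_of_ne_zero hmψ) (hdpos _)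
    linarith
  have hkey : ∑ χ, (m χ : ℝ) * (d χ : ℝ) * (r χ / d χ - T / D) ^ 2 = 0 := by
    have e1 : ∀ χ, (m χ : ℝ) * (d χ : ℝ) * (r χ / d χ - T / D) ^ 2 =
        (m χ : ℝ) * (r χ ^ 2 / d χ) - 2 * (T / D) * ((m χ : ℝ) * r χ) + (T / D) ^ 2 * ((m χ : ℝ) * d χ) := by
      intro χ
      have := (hdpos χ).ne'
      field_simp
      ring
    simp only [e1, Finset.sum_add_distrib, Finset.sum_sub_distrib, ← Finset.mul_sum]
    rw [← hD, ← hT, ← hQ]
    have hD' := hDpos.ne'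
    have hQ' : Q = T ^ 2 / D := by
      rw [eq_div_iff hD']
      linarith
    rw [hQ']
    field_simp
    ring
  have h0 := (Finset.sum_eq_zero_iff_of_nonneg (fun χ _ => mul_nonneg (hterm χ) (sq_nonneg _))).1 hkey
    ⟨ψ, hψ⟩ (Finset.mem_univ _)
  have h3 : r ⟨ψ, hψ⟩ / d ⟨ψ, hψ⟩ - T / D = 0 := by
    rcases mul_eq_zero.1 h0 with h | h
    · exfalso
      have : (0 : ℝ) < (m ⟨ψ, hψ⟩ : ℝ) * (d ⟨ψ, hψ⟩ : ℝ) :=
        mul_pos (by exact_mod_cast Nat.pos_of_ne_zero hmψ) (hdpos _)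
      linarith
    · exact pow_eq_zero_iff (two_ne_zero) |>.1 h
  have h4 : r ⟨ψ, hψ⟩ * D = T * d ⟨ψ, hψ⟩ := by
    have hD' := hDpos.ne'
    have := (hdpos ⟨ψ, hψ⟩).ne'
    field_simp at h3
    linarith
  have e1 : ψ t = (r ⟨ψ, hψ⟩ : ℂ) := hr' ⟨ψ, hψ⟩
  have e2 : ψ 1 = (d ⟨ψ, hψ⟩ : ℂ) := hd1 ⟨ψ, hψ⟩
  rw [e1, e2, hM0, hM1]
  exact_mod_cast h4

open scoped Classical in
/-- Variance zero, the sum over the conjugacy class. -/
theorem ratio_of_var_class [Fintype G] {Ψ : G → ℂ} (hΨ : IsCharacter G Ψ) {t : G} (ht : IsConj t t⁻¹)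
    (hv : Ψ 1 * ∑ u with IsConj t u, Ψ (u * t) =
      ((Subgroup.centralizer ({t} : Set G)).index : ℂ) * Ψ t ^ 2) {ψ : G → ℂ} (hψ : IsIrrCharacter G ψ)
    (hc : classInner Ψ ψ ≠ 0) : ψ t * Ψ 1 = Ψ t * ψ 1 := by
  refine ratio_of_var hΨ ht ?_ hψ hc
  have h1 := Cfsg.Agent.Characters.ClassMul.sum_conj_eq_smul (fun u => Ψ (u * t)) t
  rw [h1, nsmul_eq_mul, ← Cfsg.Agent.Characters.ClassMul.card_centralizer_mul_index t]
  linear_combination (Nat.card (Subgroup.centralizer ({t} : Set G)) : ℂ) * hv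

/-- The sum over the group of a function of the point `a • x₀` of a transitive `G`-set. -/
theorem sum_smul_eq [Fintype G] {X : Type v} [Fintype X] [MulAction G X] (htr : ∀ x y : X, ∃ g : G, g • x = y)
    (x₀ : X) (f : X → ℂ) : (Fintype.card X : ℂ) * ∑ a : G, f (a • x₀) = (Nat.card G : ℂ) * ∑ x, f x := by
  classical
  have h1 : ∀ x : X, ∑ a : G, f (a • x) = ∑ a : G, f (a • x₀) := by
    intro x
    obtain ⟨g, rfl⟩ := htr x₀ x
    exact Fintype.sum_equiv (Equiv.mulRight g) _ _ fun a => by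
      simp [mul_smul]
  have h2 : ∑ x : X, ∑ a : G, f (a • x) = (Fintype.card X : ℂ) * ∑ a : G, f (a • x₀) := by
    simp only [h1, Finset.sum_const, Finset.card_univ, nsmul_eq_mul]
  rw [← h2, Finset.sum_comm]
  have h3 : ∀ a : G, ∑ x : X, f (a • x) = ∑ x, f x := fun a =>
    Fintype.sum_equiv (MulAction.toPerm a) _ _ fun _ => rfl
  simp only [h3, Finset.sum_const, Finset.card_univ, nsmul_eq_mul, Nat.card_eq_fintype_card]

/-- Variance zero, the sum over a transitive `G`-set `X` with an equivariant map `τ : X → G`, `τ x₀ = t`. -/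
theorem ratio_of_var_act [Fintype G] {X : Type v} [Fintype X] [MulAction G X]
    (htr : ∀ x y : X, ∃ g : G, g • x = y) {τ : X → G} (hτ : ∀ (g : G) (x : X), τ (g • x) = g * τ x * g⁻¹) {x₀ : X}
    {Ψ : G → ℂ} (hΨ : IsCharacter G Ψ) (ht : IsConj (τ x₀) (τ x₀)⁻¹)
    (hv : Ψ 1 * ∑ x, Ψ (τ x * τ x₀) = (Fintype.card X : ℂ) * Ψ (τ x₀) ^ 2) {ψ : G → ℂ}
    (hψ : IsIrrCharacter G ψ) (hc : classInner Ψ ψ ≠ 0) : ψ (τ x₀) * Ψ 1 = Ψ (τ x₀) * ψ 1 := by
  refine ratio_of_var hΨ ht ?_ hψ hc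
  have h1 := sum_smul_eq htr x₀ (fun x => Ψ (τ x * τ x₀))
  simp only [hτ] at h1
  have hX : (Fintype.card X : ℂ) ≠ 0 := by
    have : Nonempty X := ⟨x₀⟩
    exact_mod_cast Fintype.card_ne_zero (α := X)
  apply mul_left_cancel₀ hX
  linear_combination Ψ 1 * h1 + (Nat.card G : ℂ) * hv

/-- The second moment over a transitive `G`-set for an irreducible character. -/
theorem sum_act_irr [Fintype G] {X : Type v} [Fintype X] [MulAction G X]
    (htr : ∀ x y : X, ∃ g : G, g • x = y) {τ : X → G} (hτ : ∀ (g : G) (x : X), τ (g • x) = g * τ x * g⁻¹) (x₀ : X)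
    {ψ : G → ℂ} (hψ : IsIrrCharacter G ψ) :
    ψ 1 * ∑ x, ψ (τ x * τ x₀) = (Fintype.card X : ℂ) * ψ (τ x₀) ^ 2 := by
  have h1 := sum_smul_eq htr x₀ (fun x => ψ (τ x * τ x₀))
  simp only [hτ] at h1
  rw [sum_char_conj_mul hψ] at h1
  have h0 := isIrr_apply_one_ne_zero hψ
  have hG : (Nat.card G : ℂ) ≠ 0 := card_ne_zero_complex
  apply mul_left_cancel₀ hG
  field_simp at h1
  linear_combination -(Nat.card G : ℂ) * h1

/-- The sum over `X` from the colours: `f` depends on the colour only. -/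
theorem sum_colour {X : Type v} [Fintype X] {ι : Type*} [Fintype ι] [DecidableEq ι] (c : X → ι) {f : X → ℂ}
    {w : ι → ℂ} (hf : ∀ x, f x = w (c x)) {k : ι → ℕ} (hk : ∀ i, Nat.card {x // c x = i} = k i) :
    ∑ x, f x = ∑ i, (k i : ℂ) * w i := by
  classical
  rw [← Finset.sum_fiberwise (s := Finset.univ) (g := c) (f := f)]
  refine Finset.sum_congr rfl fun i _ => ?_
  have h1 : ∀ x ∈ Finset.univ.filter (fun x => c x = i), f x = w i := by
    intro x hx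
    rw [hf x, (Finset.mem_filter.1 hx).2]
  rw [Finset.sum_congr rfl h1, Finset.sum_const, nsmul_eq_mul]
  congr 2
  rw [← hk i, Nat.card_eq_fintype_card, Fintype.card_subtype]

/-- Values of characters at elements with `t * t = 1` are integers. -/
theorem int_of_sq [Finite G] {ψ : G → ℂ} (hψ : IsCharacter G ψ) {t : G} (ht : t * t = 1) : ∃ n : ℤ, ψ t = n := by
  obtain ⟨n, ρ, rfl⟩ := hψ
  rw [Cfsg.Agent.Characters.Values.character_eq_sum_roots]
  have h2 : ∀ z ∈ (ρ t).charpoly.roots, z = 1 ∨ z = -1 := by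
    intro z hz
    have h3 := Cfsg.Agent.Characters.Values.pow_eq_one_of_mem_roots (n := 2)
      (by rw [← map_pow, pow_two, ht, map_one]) hz
    have h4 : (z - 1) * (z + 1) = 0 := by linear_combination h3
    rcases mul_eq_zero.1 h4 with h | h
    · exact Or.inl (sub_eq_zero.1 h)
    · exact Or.inr (eq_neg_of_add_eq_zero_left h)
  generalize (ρ t).charpoly.roots = s at h2
  induction s using Multiset.induction with
  | empty => exact ⟨0, by simp⟩
  | cons a s ih =>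
    obtain ⟨k, hk⟩ := ih fun z hz => h2 z (Multiset.mem_cons_of_mem hz)
    rw [Multiset.sum_cons, hk]
    rcases h2 a (Multiset.mem_cons_self a s) with h | h
    · exact ⟨1 + k, by rw [h]; push_cast; ring⟩
    · exact ⟨-1 + k, by rw [h]; push_cast; ring⟩

/-- The degree of a constituent is a multiple of the denominator of `Ψ(t) / Ψ(1)`. -/
theorem exists_multiple [Finite G] {ψ : G → ℂ} (hψ : IsCharacter G ψ) {t : G} (ht : t * t = 1) {D T A B k : ℤ}
    (hr : ψ t * (D : ℂ) = (T : ℂ) * ψ 1) (hk : k ≠ 0) (hD : D = k * B) (hT : T = k * A) (hAB : IsCoprime A B)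
    (hB : B ≠ 0) : ∃ j : ℤ, ψ 1 = ((j * B : ℤ) : ℂ) ∧ ψ t = ((j * A : ℤ) : ℂ) := by
  obtain ⟨n, hn⟩ := int_of_sq hψ ht
  obtain ⟨d, hd⟩ := isCharacter_apply_one hψ
  have h1 : n * (k * B) = k * A * (d : ℤ) := by
    have h2 : ((n * (k * B) : ℤ) : ℂ) = ((k * A * (d : ℤ) : ℤ) : ℂ) := by
      have h3 : ψ t * ((k * B : ℤ) : ℂ) = ((k * A : ℤ) : ℂ) * ψ 1 := by rw [← hD, ← hT]; exact hr
      rw [hn, hd] at h3
      push_cast at h3 ⊢
      linear_combination h3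
    exact_mod_cast h2
  have h4 : n * B = A * (d : ℤ) := by
    apply mul_left_cancel₀ hk
    linear_combination h1
  have h5 : B ∣ (d : ℤ) := by
    apply hAB.symm.dvd_of_dvd_mul_left
    rw [← h4]
    exact Dvd.intro_left n rfl
  obtain ⟨j, hj⟩ := h5
  have h6 : n = j * A := by
    apply mul_right_cancel₀ hB
    rw [h4, hj]
    ring
  refine ⟨j, ?_, by rw [hn, h6]⟩
  have h7 : (d : ℤ) = j * B := by rw [hj]; ring
  rw [hd, ← h7]
  push_cast
  rfl

end Cfsg.Agent.H165.Vr
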